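import Mathlib
import Cfsg.Agent.CpAut.Fix
import Cfsg.Agent.BpTab.Base
import Cfsg.Agent.CpAutU.Fixed
import Cfsg.Agent.S0282
import Cfsg.Agent.S0283

-- merged: Cfsg.Agent.BpField.Sett
section

/-!
# Field automorphisms: `Good` for the fixed points (helper70)

* `good_of_derived` : a term of the derived series of `C` is contained in a simple or solvable subgroup: `Good p C`;
* `Sett.good` : in the setting of `CpAut.Fix` (`π : H → G` with central kernel, `f : H₀ → H` onto the commutators of the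
  fixed points) the fixed points of `α` on `G` are good, if `H₀ / Z(H₀)` is simple or `H₀` is solvable.
-/

set_option autoImplicit false

namespace Cfsg.Agent.BpField

open Subgroup Cfsg Cfsg.Agent.BpTab
open Cfsg.Agent.CpAut.Fix (Sett derivedSeries_quotient_eq_bot)

universe u v w

/-- A term of the derived series inside a simple or solvable subgroup. -/
theorem good_of_derived {C : Type u} [Group C] [Finite C] {p : ℕ} (hp : p.Prime) (N : Subgroup C)
    (hN : IsSimpleGroup ↥N ∨ Group.IsSolvable ↥N) {k : ℕ} (hk : derivedSeries C k ≤ N) : Good p C := by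
  have : Fact p.Prime := ⟨hp⟩
  have key : Group.IsSolvable ↥(derivedSeries C k) → Good p C := by
    intro hs
    have hq : Group.IsSolvable (C ⧸ derivedSeries C k) := derivedSeries_quotient_eq_bot _ le_rfl
    refine good_of_solvable ?_
    exact Group.isSolvable_of_ker_le_range (derivedSeries C k).subtype (QuotientGroup.mk' (derivedSeries C k))
      (by rw [QuotientGroup.ker_mk', range_subtype])
  rcases hN with hs | hs
  · have h1 : ((derivedSeries C k).subgroupOf N).Normal := inferInstance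
    rcases h1.eq_bot_or_eq_top with h2 | h2
    · apply key
      have h3 : derivedSeries C k = ⊥ := (subgroupOf_eq_bot.1 h2).eq_bot_of_le hk
      rw [h3]
      infer_instance
    · have h3 : derivedSeries C k = N := le_antisymm hk (subgroupOf_eq_top.1 h2)
      have h4 : IsSimpleGroup ↥(derivedSeries C k) := by rw [h3]; exact hs
      exact (good_of_simple h4).of_solvable_quotient (derivedSeries_quotient_eq_bot _ le_rfl)
  · exact key (Group.isSolvable_of_isSolvable_injective (f := inclusion hk) (inclusion_injective hk))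

variable {H : Type u} {G : Type v} {H₀ : Type w} [Group H] [Group G] [Group H₀] {π : H →* G} {γ : MulAut H}
  {α : MulAut G} {f : H₀ →* H}

/-- **The fixed points of a field automorphism are good.** -/
theorem Sett.good [Finite G] (S : Sett π γ α f) {p : ℕ} (hp : p.Prime)
    (h : IsSimpleGroup (H₀ ⧸ center H₀) ∨ Group.IsSolvable H₀) : Good p ↥(fixedSubgroup α) := by
  rcases h with h | h
  · let e : H₀ ⧸ center H₀ ≃* ↥((π.comp f).range.subgroupOf (fixedSubgroup α)) :=
      S.equiv.trans (Subgroup.subgroupOfEquivOfLe S.le).symm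
    exact good_of_derived hp _ (Or.inl ((CpQuot.Congr.isSimple_iff e).1 h)) S.derived
  · have : Fact p.Prime := ⟨hp⟩
    exact good_of_solvable (S.solvable h)

end Cfsg.Agent.BpField

end

-- merged: Cfsg.Agent.BpField.PSU
section

/-!
# S1332, `PSU_n(q)`: automorphisms of field type (helper70)

* `good_field` : an automorphism `toAut A ρ` of odd prime order, `ρ ≠ 1`: the fixed points are good, all primes `ℓ`;
* `exists_gu` : an automorphism of odd prime order is of field type or `toAut A 1` with `A ^ p` scalar;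
* `bpS_of_lin` : `BpS p (PSU_n(q))` from the linear automorphisms.
-/

set_option autoImplicit false

namespace Cfsg.Agent.BpField.PSU

open Matrix Cfsg Cfsg.Agent.BpTab Cfsg.Agent.CpAut.Psl
open Cfsg.Agent.CpAutU.Fld Cfsg.Agent.CpAutU.Desc Cfsg.Agent.CpAutU.Fixed
open Cfsg.Agent.ClassicalGeometry.PSUAutCount (toAut gm gm_mul gm_one)

variable {F : Type*} [Field F] [Fintype F]

theorem solvable_su_two {K : Type*} [Field K] [Fintype K] (hK : Fintype.card K = 4) :
    Group.IsSolvable ↥(SU 3 K 2) := by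
  have h1 : Group.IsSolvable (PSU 3 K 2) := (Cfsg.Agent.S0282.result hK).2
  have h2 : Group.IsSolvable ↥(Subgroup.center ↥(SU 3 K 2)) := Group.isSolvable_of_comm fun a b =>
    Subtype.ext (Subgroup.mem_center_iff.1 b.2 a.1)
  exact (Group.isSolvable_iff_subgroup_quotient (Subgroup.center ↥(SU 3 K 2))).2 ⟨h2, h1⟩

/-- `PSU_n(s)` is simple or `SU_n(s)` is solvable. -/
theorem simple_or_solvable {E : Type*} [Field E] [Fintype E] {n s : ℕ} (hE : Fintype.card E = s ^ 2) (hn : 3 ≤ n) :
    IsSimpleGroup (PSU n E s) ∨ Group.IsSolvable (SU n E s) := by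
  by_cases h : n = 3 ∧ s = 2
  · obtain ⟨rfl, rfl⟩ := h
    exact Or.inr (solvable_su_two (by rw [hE]; norm_num))
  · exact Or.inl (S0283.result hE n hn h)

/-- **Field type.** -/
theorem good_field {n q : ℕ} (hF : Fintype.card F = q ^ 2) (hn : 3 ≤ n) {p : ℕ} (hp : p.Prime) (hp2 : p ≠ 2)
    {A : GU n F q} {ρ : F ≃+* F} (h1 : ρ ≠ 1) (h : toAut A ρ ^ p = 1) {ℓ : ℕ} (hℓ : ℓ.Prime) :
    Good ℓ ↥(fixedSubgroup (toAut A ρ)) := by
  have : Fact ℓ.Prime := ⟨hℓ⟩
  have hodd := hp.odd_of_ne_two hp2
  obtain ⟨hord, -⟩ := exists_conj hF hn hp hp2 h h1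
  obtain ⟨s, -, hs, hq⟩ := exists_s' hF hord hodd
  have hfin : Fintype ↥(fixf ρ) := Fintype.ofFinite _
  have hF₀ : Fintype.card ↥(fixf ρ) = s ^ 2 := by rw [← Nat.card_eq_fintype_card, hs]
  have hpow : ∀ a ∈ fixf ρ, a ^ q = a ^ s := fun a ha => pow_q hodd hs hq ha
  obtain ⟨e⟩ := exists_equiv hF hn hp hp2 h h1
  exact (Sett.good (sett (n := n) hF hn hF₀ hpow) hℓ (simple_or_solvable hF₀ hn)).congr e.symm

/-- Automorphisms of odd prime order: of field type, or linear with `A ^ p` scalar. -/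
theorem exists_gu {n q : ℕ} (hF : Fintype.card F = q ^ 2) (hn : 3 ≤ n) (h32 : ¬ (n = 3 ∧ q = 2)) {p : ℕ}
    (hp : p.Prime) (hp2 : p ≠ 2) {x : MulAut (PSU n F q)} (hx : orderOf x = p) :
    (∀ ℓ : ℕ, ℓ.Prime → Good ℓ ↥(fixedSubgroup x)) ∨
      ∃ A : GU n F q, x = toAut A 1 ∧ ∃ c : F, c * c ^ q = 1 ∧ gm A ^ p = c • 1 := by
  have hx' : x ^ p = 1 := by rw [← hx]; exact pow_orderOf_eq_one x
  obtain ⟨A, ρ, rfl⟩ := ClassicalGeometry.PSUAutMain.exists_toAut hF hn h32 x
  by_cases hρ : ρ = 1
  · right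
    subst hρ
    obtain ⟨-, c, hc1, hc⟩ := exists_scalar hF hn hx'
    refine ⟨A, rfl, c, hc1, ?_⟩
    have h1 : ∀ k : ℕ, ∀ v, (perm (A : GL (Fin n) F) 1 ^ k) v = gm A ^ k *ᵥ v := by
      intro k
      induction k with
      | zero => intro v; rw [pow_zero, pow_zero, one_mulVec]; rfl
      | succ k ih =>
        intro v
        rw [pow_succ, Equiv.Perm.mul_apply, ih, pow_succ, ← mulVec_mulVec]
        rfl
    apply Matrix.ext_of_mulVec_single
    intro i
    rw [← h1, hc, Matrix.smul_mulVec, one_mulVec]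
  · left
    intro ℓ hℓ
    exact good_field hF hn hp hp2 hρ hx' hℓ

/-- `BpS p (PSU_n(q))` from the linear automorphisms. -/
theorem bpS_of_lin {n q : ℕ} (hF : Fintype.card F = q ^ 2) (hn : 3 ≤ n) (h32 : ¬ (n = 3 ∧ q = 2)) {p : ℕ}
    (hp : p.Prime) (hp2 : p ≠ 2)
    (h : ∀ (A : GU n F q) (c : F), c * c ^ q = 1 → gm A ^ p = c • 1 → Good p ↥(fixedSubgroup (toAut A 1))) :
    BpS p (PSU n F q) := by
  intro x hx
  rcases exists_gu hF hn h32 hp hp2 hx with h1 | ⟨A, rfl, c, hc, hA⟩
  · exact h1 p hp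
  · exact h A c hc hA

end Cfsg.Agent.BpField.PSU

end
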